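import Groth.Agent.Lib.GenFree.Core
import Mathlib.Algebra.Module.LocalizedModule.Away
import Mathlib.Algebra.Module.LocalizedModule.Basic
import Mathlib.Algebra.Module.FinitePresentation
import Mathlib.LinearAlgebra.FreeModule.Basic
import Mathlib.RingTheory.FinitePresentation
import Mathlib.RingTheory.Localization.Integer
import Mathlib.RingTheory.RingHom.FinitePresentation
import Mathlib.RingTheory.RingHom.Flat
import Mathlib.RingTheory.Flat.Localization
import Mathlib.RingTheory.Localization.Module

/-!
Consequences of the core: freeness and finite presentation after localization.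
-/

noncomputable section

universe u

namespace Groth.Agent.Lib.GenFree

variable {R : Type u} [CommRing R]

/-- free with a basis, up to powers of `g` -/
def FreeUpTo (g : R) (M : Type u) [AddCommGroup M] [Module R M] : Prop :=
  ∃ (ι : Type u) (b : ι → M), (∀ x, ∃ N : ℕ, g ^ N • x ∈ Submodule.span R (Set.range b)) ∧
    ∀ c : ι →₀ R, Finsupp.linearCombination R b c = 0 → g • c = 0

/-- finitely many relations, up to powers of `g` -/
def RelUpTo (g : R) {B : Type u} [CommRing B] [Algebra R B] {M : Type u} [AddCommGroup M]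
    [Module B M] {k : ℕ} (m : Fin k → M) : Prop :=
  ∃ G : Finset (Fin k → B), (∀ z ∈ G, Fintype.linearCombination B m z = 0) ∧
    ∀ z, Fintype.linearCombination B m z = 0 →
      ∃ N : ℕ, g ^ N • z ∈ Submodule.span B (G : Set (Fin k → B))

variable {g g' : R} {M : Type u} [AddCommGroup M] [Module R M]

theorem FreeUpTo.mono (h : FreeUpTo g M) (hd : g ∣ g') : FreeUpTo g' M := by
  obtain ⟨ι, b, h1, h2⟩ := h
  obtain ⟨c, rfl⟩ := hd
  refine ⟨ι, b, fun x ↦ ?_, fun a ha ↦ ?_⟩
  · obtain ⟨N, hN⟩ := h1 x
    refine ⟨N, ?_⟩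
    rw [mul_pow, mul_comm, mul_smul]
    exact Submodule.smul_mem _ _ hN
  · rw [mul_comm, mul_smul, h2 a ha, smul_zero]

theorem RelUpTo.mono {B : Type u} [CommRing B] [Algebra R B] {M : Type u} [AddCommGroup M]
    [Module B M] {k : ℕ} {m : Fin k → M} (h : RelUpTo g (B := B) m) (hd : g ∣ g') :
    RelUpTo g' (B := B) m := by
  obtain ⟨G, h1, h2⟩ := h
  obtain ⟨c, rfl⟩ := hd
  refine ⟨G, h1, fun z hz ↦ ?_⟩
  obtain ⟨N, hN⟩ := h2 z hz
  refine ⟨N, ?_⟩
  rw [mul_pow, mul_comm, mul_smul]
  exact Submodule.smul_of_tower_mem _ _ hN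

theorem FreeUpTo.free (h : FreeUpTo g M) :
    Module.Free (Localization.Away g) (LocalizedModule (Submonoid.powers g) M) := by
  obtain ⟨ι, b, h1, h2⟩ := h
  let b' : ι → LocalizedModule (Submonoid.powers g) M :=
    fun i ↦ LocalizedModule.mkLinearMap (Submonoid.powers g) M (b i)
  have hli : LinearIndependent (Localization.Away g) b' := by
    rw [linearIndependent_iff']
    intro s c hc i hi
    classical
    obtain ⟨⟨_, N, rfl⟩, hd⟩ :=
      IsLocalization.exist_integer_multiples (Submonoid.powers g) s c
    choose c₀ hc₀ using hd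
    have h3 : LocalizedModule.mkLinearMap (Submonoid.powers g) M
        (∑ j ∈ s.attach, c₀ j.1 j.2 • b j.1) = 0 := by
      have := congrArg (fun x ↦ (g ^ N : R) • x) hc
      simp only [smul_zero, Finset.smul_sum] at this
      rw [map_sum, ← this, ← Finset.sum_attach s (fun j ↦ g ^ N • c j • b' j)]
      refine Finset.sum_congr rfl fun j _ ↦ ?_
      rw [map_smul, ← smul_assoc, ← hc₀ j.1 j.2, algebraMap_smul]
    obtain ⟨⟨_, N', rfl⟩, hN'⟩ := (IsLocalizedModule.eq_zero_iff (Submonoid.powers g) _).1 h3
    let c' : ι →₀ R := ∑ j ∈ s.attach, Finsupp.single j.1 (g ^ N' * c₀ j.1 j.2)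
    have hc' : Finsupp.linearCombination R b c' = 0 := by
      rw [← hN', Submonoid.smul_def, Finset.smul_sum]
      simp only [c', map_sum, Finsupp.linearCombination_single, smul_smul]
    have h4 := congrArg (fun f : ι →₀ R ↦ algebraMap R (Localization.Away g) (f i)) (h2 c' hc')
    simp only [c', Finsupp.smul_apply, smul_eq_mul, Finsupp.coe_zero, Pi.zero_apply, map_zero,
      Finsupp.finsetSum_apply] at h4
    rw [Finset.sum_eq_single ⟨i, hi⟩ (fun j _ hne ↦ Finsupp.single_eq_of_ne
      (fun h' ↦ hne (Subtype.ext h'.symm))) (fun h' ↦ absurd (Finset.mem_attach _ _) h')] at h4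
    simp only [Finsupp.single_eq_same, map_mul, map_pow] at h4
    have hu : IsUnit (algebraMap R (Localization.Away g) g) :=
      IsLocalization.map_units _ ⟨g, Submonoid.mem_powers g⟩
    rw [hu.mul_right_eq_zero, (hu.pow _).mul_right_eq_zero, hc₀ i hi, Algebra.smul_def] at h4
    exact ((IsLocalization.map_units _ (⟨g ^ N, N, rfl⟩ : Submonoid.powers g)).mul_right_eq_zero).1 h4
  refine Module.Free.of_basis (Module.Basis.mk hli ?_)
  rintro x -
  induction x using LocalizedModule.induction_on with
  | h y t =>
    obtain ⟨N, hN⟩ := h1 y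
    have hmem : LocalizedModule.mkLinearMap (Submonoid.powers g) M (g ^ N • y) ∈
        Submodule.span (Localization.Away g) (Set.range b') := by
      have := Submodule.mem_map_of_mem
        (f := LocalizedModule.mkLinearMap (Submonoid.powers g) M) hN
      rw [Submodule.map_span, ← Set.range_comp] at this
      exact Submodule.span_le_restrictScalars R (Localization.Away g) _ this
    have hx : LocalizedModule.mk y t = (Localization.mk (1 : R)
        (t * (⟨g ^ N, N, rfl⟩ : Submonoid.powers g)) : Localization.Away g) •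
        LocalizedModule.mkLinearMap (Submonoid.powers g) M (g ^ N • y) := by
      rw [LocalizedModule.mkLinearMap_apply, LocalizedModule.mk_smul_mk, one_smul, mul_one,
        LocalizedModule.mk_eq]
      exact ⟨1, by simp [Submonoid.smul_def, smul_smul]⟩
    rw [hx]
    exact Submodule.smul_mem _ _ hmem

section Quotient

open MvPolynomial

variable [IsReduced R] {n : ℕ} {B : Type u} [CommRing B] [Algebra R B]
  (α : MvPolynomial (Fin n) R →ₐ[R] B) (hα : Function.Surjective α)
  {M : Type u} [AddCommGroup M] [Module R M] [Module B M] [IsScalarTower R B M]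

include hα in
theorem exists_upTo {k : ℕ} (m : Fin k → M) (hm : Submodule.span B (Set.range m) = ⊤)
    (g₀ : R) (hg₀ : g₀ ≠ 0) : ∃ g : R, g ≠ 0 ∧ g₀ ∣ g ∧ FreeUpTo g M ∧ RelUpTo g (B := B) m := by
  classical
  let _ : Module (MvPolynomial (Fin n) R) M := Module.compHom M α.toRingHom
  have : IsScalarTower R (MvPolynomial (Fin n) R) M := ⟨fun r p x ↦ by
    show α (r • p) • x = r • (α p • x)
    rw [map_smul, smul_assoc]⟩
  obtain ⟨g, D, γ, hg, hdvd, hrw, hind⟩ := exists_terminal (n := n) m g₀ hg₀
  let φ : F R k n →ₗ[R] (Fin k → B) :=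
    Finsupp.linearCombination R fun j : Idx k n ↦ Pi.single j.1 (α (monomial j.2 1))
  have hφshift : ∀ (e : Fin n →₀ ℕ) (z : F R k n), φ (shift e z) = α (monomial e 1) • φ z := by
    intro e z
    induction z using Finsupp.induction_linear with
    | zero => simp
    | add a b ha hb => simp only [map_add, smul_add, ha, hb]
    | single j r =>
      simp only [φ, shift, Finsupp.lmapDomain_apply, Finsupp.mapDomain_single,
        Finsupp.linearCombination_single, sh]
      simp only [← Pi.single_smul', smul_eq_mul, mul_smul_comm, ← map_mul, monomial_mul, mul_one]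
  have hev : ∀ z, Fintype.linearCombination B m (φ z) = ev m z := by
    intro z
    induction z using Finsupp.induction_linear with
    | zero => simp
    | add a b ha hb => simp only [map_add, ha, hb]
    | single j r =>
      simp only [φ, ev, Finsupp.linearCombination_single]
      rw [Fintype.linearCombination_apply, Finset.sum_eq_single j.1 (fun i _ hne ↦ by
        simp [Pi.single_eq_of_ne hne]) (fun h ↦ absurd (Finset.mem_univ _) h), Pi.smul_apply,
        Pi.single_eq_same, smul_assoc]
      rfl
  have hφsurj : Function.Surjective φ := by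
    intro z
    choose p hp using fun i ↦ hα (z i)
    refine ⟨∑ i, (p i).support.sum fun d ↦ Finsupp.single (i, d) ((p i).coeff d), funext fun l ↦ ?_⟩
    simp only [φ, map_sum, Finsupp.linearCombination_single, Finset.sum_apply, Pi.smul_apply]
    rw [Finset.sum_eq_single l (fun i _ hne ↦ Finset.sum_eq_zero fun d _ ↦ by
      simp [Pi.single_eq_of_ne hne.symm]) (fun h ↦ absurd (Finset.mem_univ _) h)]
    conv_rhs => rw [← hp l, (p l).as_sum, map_sum]
    refine Finset.sum_congr rfl fun d _ ↦ ?_
    rw [Pi.single_eq_same, ← map_smul, smul_monomial, smul_eq_mul, mul_one]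
  let b : {j : Idx k n // ¬ InUp D j} → M := fun j ↦ ev m (Finsupp.single j.1 (1 : R))
  have hspanb : ∀ r : F R k n, (∀ i ∈ r.support, ¬ InUp D i) →
      ev m r ∈ Submodule.span R (Set.range b) := by
    intro r hr
    rw [← r.sum_single, Finsupp.sum, map_sum]
    refine sum_mem fun i hi ↦ ?_
    rw [← Finsupp.smul_single_one, map_smul]
    exact Submodule.smul_mem _ _ (Submodule.subset_span ⟨⟨i, hr i hi⟩, rfl⟩)
  refine ⟨g, hg, hdvd, ⟨ULift.{u} {j : Idx k n // ¬ InUp D j}, fun j ↦ b j.down, fun x ↦ ?_,
    fun c hc ↦ ?_⟩, D.image fun j ↦ φ (γ j), fun z hz ↦ ?_, fun z hz ↦ ?_⟩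
  · have hx : x ∈ Submodule.span B (Set.range m) := hm ▸ Submodule.mem_top
    rw [← Fintype.range_linearCombination] at hx
    obtain ⟨y, rfl⟩ := hx
    obtain ⟨z, rfl⟩ := hφsurj y
    obtain ⟨N, r, hr, hdiff⟩ := exists_reduce hrw z
    refine ⟨N, ?_⟩
    have h0 := LinearMap.mem_ker.1 (ev_relSpan (fun i hi ↦ (hrw i hi).1) hdiff)
    rw [map_sub, map_smul, sub_eq_zero] at h0
    rw [hev, h0]
    have hrange : Set.range (fun j : ULift.{u} {j : Idx k n // ¬ InUp D j} ↦ b j.down) = Set.range b :=
      ULift.down_surjective.range_comp b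
    rw [hrange]
    exact hspanb r hr
  · let e : ULift.{u} {j : Idx k n // ¬ InUp D j} → Idx k n := fun j ↦ j.down.1
    have he : Function.Injective e := Subtype.val_injective.comp ULift.down_injective
    have hc' : ev m (Finsupp.mapDomain e c) = 0 := by
      rw [← hc]
      simp only [ev, Finsupp.linearCombination_mapDomain]
      congr 1
      refine congrArg _ (funext fun j ↦ ?_)
      simp [b, e, ev]
    have h1 := hind _ (fun i hi ↦ by
      obtain ⟨j, -, rfl⟩ := Finset.mem_image.1 (Finsupp.mapDomain_support hi)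
      exact j.down.2) hc'
    rw [← Finsupp.mapDomain_smul] at h1
    exact Finsupp.mapDomain_injective he (h1.trans Finsupp.mapDomain_zero.symm)
  · obtain ⟨j, hj, rfl⟩ := Finset.mem_image.1 hz
    rw [hev, (hrw j hj).1]
  · obtain ⟨w, rfl⟩ := hφsurj z
    rw [hev] at hz
    obtain ⟨N, r, hr, hdiff⟩ := exists_reduce hrw w
    refine ⟨N + 1, ?_⟩
    have h0 := LinearMap.mem_ker.1 (ev_relSpan (fun i hi ↦ (hrw i hi).1) hdiff)
    rw [map_sub, map_smul, hz, smul_zero, zero_sub, neg_eq_zero] at h0
    have hgr : g • r = 0 := hind r hr h0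
    have hmap : φ (g • (g ^ N • w - r)) ∈
        Submodule.span B ((D.image fun j ↦ φ (γ j) : Finset (Fin k → B)) : Set (Fin k → B)) := by
      rw [map_smul]
      refine Submodule.smul_of_tower_mem _ g ?_
      have hle : relSpan R n D γ ≤ Submodule.comap φ ((Submodule.span B
          ((D.image fun j ↦ φ (γ j) : Finset (Fin k → B)) : Set (Fin k → B))).restrictScalars R) := by
        refine iSup₂_le fun i hi ↦ iSup_le fun e ↦ ?_
        rw [Submodule.span_singleton_le_iff_mem, Submodule.mem_comap, hφshift]
        exact Submodule.smul_mem _ _ (Submodule.subset_span (Finset.mem_coe.2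
          (Finset.mem_image_of_mem _ hi)))
      exact hle hdiff
    rw [smul_sub, hgr, sub_zero, smul_smul, map_smul] at hmap
    rw [pow_succ']
    exact hmap

end Quotient

/-- The locus is dense: the three properties together, for an algebra of finite type. -/
theorem exists_upTo_finiteType [IsReduced R] (S : Type u) [CommRing S] [Algebra R S] {n : ℕ}
    (α : MvPolynomial (Fin n) R →ₐ[R] S) (hα : Function.Surjective α)
    (M : Type u) [AddCommGroup M] [Module R M] [Module S M] [IsScalarTower R S M]
    {k : ℕ} (m : Fin k → M) (hm : Submodule.span S (Set.range m) = ⊤) (g₀ : R) (hg₀ : g₀ ≠ 0) :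
    ∃ g : R, g ≠ 0 ∧ g₀ ∣ g ∧ FreeUpTo g M ∧ RelUpTo g (B := S) m ∧ FreeUpTo g S ∧
      ∃ G : Finset (MvPolynomial (Fin n) R), (∀ p ∈ G, α p = 0) ∧
        ∀ p, α p = 0 → ∃ N : ℕ, g ^ N • p ∈ Ideal.span (G : Set (MvPolynomial (Fin n) R)) := by
  classical
  obtain ⟨g₁, hg₁, hd₁, hM, hrel⟩ := exists_upTo α hα m hm g₀ hg₀
  let _ : Module (MvPolynomial (Fin n) R) S := Module.compHom S α.toRingHom
  have : IsScalarTower R (MvPolynomial (Fin n) R) S := ⟨fun r p x ↦ by
    show α (r • p) • x = r • (α p • x)
    rw [map_smul, smul_assoc]⟩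
  have hspan : Submodule.span (MvPolynomial (Fin n) R) (Set.range fun _ : Fin 1 ↦ (1 : S)) = ⊤ := by
    refine eq_top_iff.2 fun x _ ↦ ?_
    obtain ⟨p, rfl⟩ := hα x
    rw [show α p = p • (1 : S) from (mul_one (α p)).symm]
    exact Submodule.smul_mem _ _ (Submodule.subset_span ⟨0, rfl⟩)
  obtain ⟨g, hg, hd, hS, G, hG, hG'⟩ := exists_upTo (AlgHom.id R (MvPolynomial (Fin n) R))
    Function.surjective_id (M := S) (fun _ : Fin 1 ↦ (1 : S)) hspan g₁ hg₁
  have hlc : ∀ z : Fin 1 → MvPolynomial (Fin n) R,
      Fintype.linearCombination (MvPolynomial (Fin n) R) (fun _ : Fin 1 ↦ (1 : S)) z = α (z 0) := by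
    intro z
    rw [Fintype.linearCombination_apply, Fin.sum_univ_one]
    exact mul_one _
  refine ⟨g, hg, hd₁.trans hd, hM.mono hd, hrel.mono hd, hS, G.image fun z ↦ z 0, ?_, ?_⟩
  · intro p hp
    obtain ⟨z, hz, rfl⟩ := Finset.mem_image.1 hp
    rw [← hlc, hG z hz]
  · intro p hp
    obtain ⟨N, hN⟩ := hG' (fun _ ↦ p) (by rw [hlc, hp])
    refine ⟨N, ?_⟩
    have := Submodule.mem_map_of_mem (f := LinearMap.proj (R := MvPolynomial (Fin n) R)
      (φ := fun _ : Fin 1 ↦ MvPolynomial (Fin n) R) 0) hN
    rw [Submodule.map_span] at this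
    simpa [Finset.coe_image] using! this

section FinitePresentation

variable {S : Type u} [CommRing S] [Algebra R S] {n : ℕ}

theorem finitePresentation_awayMap (α : MvPolynomial (Fin n) R →ₐ[R] S) (hα : Function.Surjective α)
    (g : R) (G : Finset (MvPolynomial (Fin n) R)) (hG : ∀ p ∈ G, α p = 0)
    (hG' : ∀ p, α p = 0 → ∃ N : ℕ, g ^ N • p ∈ Ideal.span (G : Set (MvPolynomial (Fin n) R))) :
    (Localization.awayMap (algebraMap R S) g).FinitePresentation := by
  let I := Ideal.span (G : Set (MvPolynomial (Fin n) R))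
  let S' := MvPolynomial (Fin n) R ⧸ I
  have hI : ∀ p ∈ I, α p = 0 := fun p hp ↦
    RingHom.mem_ker.1 ((Ideal.span_le (I := RingHom.ker α.toRingHom)).2 hG hp)
  let π : S' →ₐ[R] S := Ideal.Quotient.liftₐ I α hI
  have hπ : Function.Surjective π := fun x ↦ by
    obtain ⟨p, rfl⟩ := hα x
    exact ⟨Ideal.Quotient.mk I p, Ideal.Quotient.liftₐ_apply _ _ _ _⟩
  have : Algebra.FinitePresentation R S' :=
    Algebra.FinitePresentation.quotient ⟨G, rfl⟩
  let Sg := Localization.Away (algebraMap R S g)
  let _ : Algebra S' Sg := ((algebraMap S Sg).comp π.toRingHom).toAlgebra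
  have : IsScalarTower R S' Sg := IsScalarTower.of_algebraMap_eq (R := R) (S := S') (A := Sg) fun r ↦ by
    show algebraMap R Sg r = algebraMap S Sg (π (algebraMap R S' r))
    rw [π.commutes, ← IsScalarTower.algebraMap_apply]
  have hgS : ∀ N : ℕ, π (algebraMap R S' g ^ N) = algebraMap R S g ^ N := fun N ↦ by
    rw [map_pow, π.commutes]
  have : IsLocalization.Away (algebraMap R S' g) Sg := by
    constructor
    constructor
    · rintro ⟨_, N, rfl⟩
      show IsUnit (algebraMap S Sg (π (algebraMap R S' g ^ N)))
      rw [hgS]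
      exact IsLocalization.map_units Sg (⟨_, N, rfl⟩ : Submonoid.powers (algebraMap R S g))
    · intro z
      obtain ⟨⟨a, ⟨_, N, rfl⟩⟩, hz⟩ :=
        IsLocalization.surj (Submonoid.powers (algebraMap R S g)) z
      obtain ⟨a', rfl⟩ := hπ a
      refine ⟨⟨a', ⟨_, N, rfl⟩⟩, ?_⟩
      show z * algebraMap S Sg (π (algebraMap R S' g ^ N)) = algebraMap S Sg (π a')
      rw [hgS]
      exact hz
    · intro x y h
      obtain ⟨⟨_, N, rfl⟩, hN⟩ := (IsLocalization.eq_iff_exists
        (Submonoid.powers (algebraMap R S g)) Sg).1 (show algebraMap S Sg (π x) = algebraMap S Sg (π y) from h)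
      obtain ⟨p, hp⟩ := Ideal.Quotient.mk_surjective (algebraMap R S' g ^ N * (x - y))
      have hp0 : α p = 0 := by
        have h' := congrArg π hp
        rw [Ideal.Quotient.liftₐ_apply, map_mul, hgS, map_sub, mul_sub] at h'
        simpa [hN, π, Ideal.Quotient.lift_mk] using! h'
      obtain ⟨N', hN'⟩ := hG' p hp0
      refine ⟨⟨_, N' + N, rfl⟩, ?_⟩
      rw [← Ideal.Quotient.eq_zero_iff_mem, Algebra.smul_def, map_mul, hp, map_pow] at hN'
      show algebraMap R S' g ^ (N' + N) * x = algebraMap R S' g ^ (N' + N) * y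
      rw [← sub_eq_zero, ← mul_sub, pow_add, mul_assoc]
      exact hN'
  have : Algebra.FinitePresentation S' Sg :=
    IsLocalization.Away.finitePresentation (algebraMap R S' g)
  have : Algebra.FinitePresentation R Sg := Algebra.FinitePresentation.trans R S' Sg
  let _ : Algebra (Localization.Away g) Sg := (Localization.awayMap (algebraMap R S) g).toAlgebra
  have : IsScalarTower R (Localization.Away g) Sg := IsScalarTower.of_algebraMap_eq fun r ↦ by
    show algebraMap R Sg r = Localization.awayMap (algebraMap R S) g (algebraMap R _ r)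
    rw [IsScalarTower.algebraMap_apply R S Sg]
    exact (IsLocalization.map_eq _ _).symm
  exact Algebra.FinitePresentation.of_restrict_scalars_finitePresentation R (Localization.Away g) Sg

theorem RelUpTo.finitePresentation {M : Type u} [AddCommGroup M] [Module R M] [Module S M]
    [IsScalarTower R S M] {k : ℕ} {m : Fin k → M} (hm : Submodule.span S (Set.range m) = ⊤)
    {g : R} (h : RelUpTo g (B := S) m) :
    Module.FinitePresentation (Localization.Away (algebraMap R S g))
      (LocalizedModule (Submonoid.powers (algebraMap R S g)) M) := by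
  obtain ⟨G, hG, hG'⟩ := h
  let K := Submodule.span S (G : Set (Fin k → S))
  have hK : K ≤ LinearMap.ker (Fintype.linearCombination S m) :=
    Submodule.span_le.2 fun z hz ↦ hG z hz
  let L : (Fin k → S) ⧸ K →ₗ[S] M := K.liftQ _ hK
  have hL : Function.Surjective L := by
    rw [← LinearMap.range_eq_top, Submodule.range_liftQ, Fintype.range_linearCombination, hm]
  have : Module.FinitePresentation S ((Fin k → S) ⧸ K) :=
    Module.finitePresentation_of_surjective K.mkQ K.mkQ_surjective (by
      rw [Submodule.ker_mkQ]; exact ⟨G, rfl⟩)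
  let T := Submonoid.powers (algebraMap R S g)
  let L' := (LocalizedModule.mkLinearMap T M).comp L
  have : IsLocalizedModule T L' := by
    refine ⟨fun x ↦ IsLocalizedModule.map_units (LocalizedModule.mkLinearMap T M) x, fun y ↦ ?_,
      fun {x₁ x₂} hx ↦ ?_⟩
    · obtain ⟨⟨a, s⟩, ha⟩ := IsLocalizedModule.surj T (LocalizedModule.mkLinearMap T M) y
      obtain ⟨a', rfl⟩ := hL a
      exact ⟨⟨a', s⟩, ha⟩
    · obtain ⟨⟨_, N, rfl⟩, hN⟩ :=
        (IsLocalizedModule.eq_iff_exists T (LocalizedModule.mkLinearMap T M)).1 hx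
      obtain ⟨z, hz⟩ := K.mkQ_surjective (algebraMap R S g ^ N • (x₁ - x₂))
      have hz0 : Fintype.linearCombination S m z = 0 := by
        have h' := congrArg L hz
        rw [Submodule.mkQ_apply, Submodule.liftQ_apply, map_smul, map_sub, smul_sub] at h'
        rw [h', sub_eq_zero]
        exact hN
      obtain ⟨N', hN'⟩ := hG' z hz0
      refine ⟨⟨_, N' + N, rfl⟩, ?_⟩
      have h0 : algebraMap R S g ^ N' • K.mkQ z = 0 := by
        rw [← map_smul, ← map_pow, algebraMap_smul]
        exact (Submodule.Quotient.mk_eq_zero K).2 hN'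
      rw [hz, smul_smul, ← pow_add, smul_sub, sub_eq_zero] at h0
      exact h0
  exact FinitePresentation.of_isBaseChange L'
    ((isLocalizedModule_iff_isBaseChange T _ L').1 inferInstance)

end FinitePresentation

end Groth.Agent.Lib.GenFree

namespace Groth.Agent.Lib.GenFree

/-- On any models of the two localizations, the map between them is flat and finitely presented. -/
theorem flat_finitePresentation_awayMap' {R S : Type u} [CommRing R] [CommRing S] (φ : R →+* S)
    {n : ℕ} (g : R)
    (h : letI := φ.toAlgebra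
      ∃ α : MvPolynomial (Fin n) R →ₐ[R] S, Function.Surjective α ∧ FreeUpTo g S ∧
        ∃ G : Finset (MvPolynomial (Fin n) R), (∀ p ∈ G, α p = 0) ∧
          ∀ p, α p = 0 → ∃ N : ℕ, g ^ N • p ∈ Ideal.span (G : Set (MvPolynomial (Fin n) R)))
    (Rg : Type u) [CommRing Rg] [Algebra R Rg] [IsLocalization.Away g Rg]
    (Sg : Type u) [CommRing Sg] [Algebra S Sg] [IsLocalization.Away (φ g) Sg] :
    (IsLocalization.Away.map Rg Sg φ g).Flat ∧
      (IsLocalization.Away.map Rg Sg φ g).FinitePresentation := by
  letI := φ.toAlgebra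
  obtain ⟨α, hα, hfree, G, hG, hG'⟩ := h
  have : IsLocalization.Away (algebraMap R S g) Sg := ‹_›
  let _ : Algebra R Sg := ((algebraMap S Sg).comp φ).toAlgebra
  have : IsScalarTower R S Sg := IsScalarTower.of_algebraMap_eq fun _ ↦ rfl
  let _ : Algebra Rg Sg := (IsLocalization.Away.map Rg Sg φ g).toAlgebra
  have : IsScalarTower R Rg Sg := IsScalarTower.of_algebraMap_eq fun r ↦ by
    show algebraMap S Sg (φ r) = IsLocalization.Away.map Rg Sg φ g (algebraMap R Rg r)
    exact (IsLocalization.map_eq _ _).symm
  constructor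
  · rw [← RingHom.algebraMap_toAlgebra (IsLocalization.Away.map Rg Sg φ g),
      RingHom.flat_algebraMap_iff, Module.flat_iff_of_isLocalization Rg (Submonoid.powers g)]
    have : Module.Free (Localization.Away g) (LocalizedModule (Submonoid.powers g) S) := hfree.free
    have : Module.Flat R (LocalizedModule (Submonoid.powers g) S) :=
      (Module.flat_iff_of_isLocalization (Localization.Away g) (Submonoid.powers g)
        (LocalizedModule (Submonoid.powers g) S)).1 inferInstance
    have : IsLocalizedModule (Submonoid.powers g) (IsScalarTower.toAlgHom R S Sg).toLinearMap := by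
      rw [isLocalizedModule_iff_isLocalization, Algebra.algebraMapSubmonoid, Submonoid.map_powers]
      infer_instance
    exact Module.Flat.of_linearEquiv
      (IsLocalizedModule.iso (Submonoid.powers g) (IsScalarTower.toAlgHom R S Sg).toLinearMap).symm
  · rw [← RingHom.algebraMap_toAlgebra (IsLocalization.Away.map Rg Sg φ g),
      RingHom.finitePresentation_algebraMap]
    have h1 := finitePresentation_awayMap α hα g G hG hG'
    have h2 : (algebraMap R (Localization.Away g)).FinitePresentation :=
      RingHom.finitePresentation_algebraMap.2 (IsLocalization.Away.finitePresentation g)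
    have h3 := h1.comp h2
    have heq : (Localization.awayMap (algebraMap R S) g).comp (algebraMap R (Localization.Away g))
        = algebraMap R (Localization.Away (algebraMap R S g)) := by
      ext r
      rw [RingHom.comp_apply, IsScalarTower.algebraMap_apply R S (Localization.Away (algebraMap R S g))]
      exact IsLocalization.map_eq _ _
    rw [heq, RingHom.finitePresentation_algebraMap] at h3
    have : Algebra.FinitePresentation R Sg := Algebra.FinitePresentation.equiv
      ((IsLocalization.algEquiv (Submonoid.powers (algebraMap R S g))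
        (Localization.Away (algebraMap R S g)) Sg).restrictScalars R)
    have : Algebra.FinitePresentation R Rg := IsLocalization.Away.finitePresentation g
    have : Algebra.FiniteType R Rg := Algebra.FiniteType.of_finitePresentation
    exact Algebra.FinitePresentation.of_restrict_scalars_finitePresentation R Rg Sg

end Groth.Agent.Lib.GenFree
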