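import Groth.Agent.Lib.GenFree.Good
import Groth.Agent.Lib.StalkLoc.Basic
import Groth.Agent.Lib.CohBasics.Affine
import Groth.Agent.Lib.Flat55.FibrewiseScheme
import Groth.Prelude.Def_FlatMod2
import Mathlib.RingTheory.FiniteType
import Mathlib.RingTheory.Flat.EquationalCriterion
import Mathlib.AlgebraicGeometry.Morphisms.FiniteType

/-!
# Generic flatness for quasi-coherent modules of finite type
-/

set_option autoImplicit false

universe u

open CategoryTheory AlgebraicGeometry Opposite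

namespace Groth.Agent.Lib.GenFree

/-- A localization of `N` away from a submonoid containing `g` is flat over `R` if `N_g` is. -/
theorem flat_of_isLocalizedModule {R A : Type u} [CommRing R] [CommRing A] [Algebra R A]
    {N : Type u} [AddCommGroup N] [Module R N] [Module A N] [IsScalarTower R A N] (g : R)
    [Module.Flat R (LocalizedModule (Submonoid.powers g) N)] {N' : Type u} [AddCommGroup N']
    [Module R N'] [Module A N'] [IsScalarTower R A N'] (T : Submonoid A) (hT : algebraMap R A g ∈ T)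
    (f : N →ₗ[A] N') [IsLocalizedModule T f] : Module.Flat R N' := by
  have hunit : ∀ x : Submonoid.powers g, IsUnit (algebraMap R (Module.End R N') x) := by
    rintro ⟨_, j, rfl⟩
    rw [map_pow]
    refine IsUnit.pow _ ?_
    rw [Module.End.isUnit_iff]
    have h := (Module.End.isUnit_iff _).1
      (IsLocalizedModule.map_units f (⟨algebraMap R A g, hT⟩ : T))
    convert h using 1
    funext v
    simp [Module.algebraMap_end_apply, algebraMap_smul]
  let ψ : LocalizedModule (Submonoid.powers g) N →ₗ[R] N' :=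
    LocalizedModule.lift (Submonoid.powers g) (f.restrictScalars R) hunit
  have hψ : ∀ n, ψ (LocalizedModule.mkLinearMap _ N n) = f n := fun n ↦
    LinearMap.congr_fun (LocalizedModule.lift_comp (Submonoid.powers g) (f.restrictScalars R) hunit) n
  refine Module.Flat.iff_forall_isTrivialRelation.2 fun {l r x} hrx ↦ ?_
  classical
  choose p hp using fun i ↦ IsLocalizedModule.surj T f (x i)
  let t : T := ∏ i, (p i).2
  let n : Fin l → N := fun i ↦ ((∏ j ∈ Finset.univ.erase i, (p j).2 : T) : A) • (p i).1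
  have hn : ∀ i, f (n i) = (t : A) • x i := fun i ↦ by
    simp only [n, map_smul, ← hp i, Submonoid.smul_def, smul_smul]
    congr 1
    rw [← Submonoid.coe_mul, Finset.prod_erase_mul _ _ (Finset.mem_univ i)]
  have h0 : f (∑ i, r i • n i) = 0 := by
    rw [map_sum]
    simp only [LinearMap.map_smul_of_tower, hn]
    simp only [smul_comm (r _) (t : A), ← Finset.smul_sum, hrx, smul_zero]
  obtain ⟨t', ht'⟩ := (IsLocalizedModule.eq_zero_iff T f).1 h0
  have h1 : ∑ i, r i • LocalizedModule.mkLinearMap (Submonoid.powers g) N ((t' : A) • n i) = 0 := by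
    simp only [← LinearMap.map_smul, ← map_sum, smul_comm (r _) (t' : A), ← Finset.smul_sum]
    rw [← Submonoid.smul_def, ht', map_zero]
  obtain ⟨k, a, y, hy, ha⟩ := Module.Flat.isTrivialRelation_of_sum_smul_eq_zero h1
  have hu := (Module.End.isUnit_iff _).1 (IsLocalizedModule.map_units f (t' * t))
  choose z hz using fun j ↦ hu.2 (ψ (y j))
  refine ⟨k, a, z, fun i ↦ hu.1 ?_, ha⟩
  have h2 := congrArg ψ (hy i)
  rw [hψ, map_smul, hn, smul_smul, ← Submonoid.coe_mul, map_sum] at h2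
  simp only [Module.algebraMap_end_apply] at hz ⊢
  rw [h2, Finset.smul_sum]
  refine Finset.sum_congr rfl fun j _ ↦ ?_
  rw [map_smul, ← hz j, smul_comm]

variable {X Y : Scheme.{u}}

/-- Generic flatness. -/
theorem generic_flatness (u : X ⟶ Y) [IsIntegral Y] [LocallyOfFiniteType u] [QuasiCompact u]
    (F : X.Modules) [F.IsQuasicoherent] [SheafOfModules.IsFiniteType (R := X.ringCatSheaf) F] :
    ∃ U : Y.Opens, (U : Set Y).Nonempty ∧ ∀ x : X, u.base x ∈ U → FlatMod.IsFlatOverAt u F x := by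
  obtain ⟨y₀⟩ := (inferInstance : Nonempty Y)
  obtain ⟨W, hW, hyW, -⟩ := exists_isAffineOpen_mem_and_subset (X := Y) (x := y₀) (U := ⊤) trivial
  obtain ⟨T, hTle, hcov⟩ : ∃ T : Finset X.affineOpens, (∀ V ∈ T, V.1 ≤ u ⁻¹ᵁ W) ∧
      ∀ x, u x ∈ W → ∃ V ∈ T, x ∈ V.1 := by
    have hc : IsCompact (u ⁻¹ᵁ W : Set X) :=
      QuasiCompact.isCompact_preimage _ W.isOpen hW.isCompact
    obtain ⟨T, hT, hTf, hsub⟩ := hc.elim_finite_subcover_image
      (b := {V : X.affineOpens | V.1 ≤ u ⁻¹ᵁ W}) (c := fun V ↦ (V.1 : Set X))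
      (fun V _ ↦ V.1.isOpen) (fun x hx ↦ by
        obtain ⟨_, ⟨V, hV, rfl⟩, hxV, hsub⟩ :=
          X.isBasis_affineOpens.exists_subset_of_mem_open hx (u ⁻¹ᵁ W).isOpen
        exact Set.mem_biUnion (x := ⟨V, hV⟩) hsub hxV)
    refine ⟨hTf.toFinset, fun V hV ↦ hT (hTf.mem_toFinset.1 hV), fun x hx ↦ ?_⟩
    obtain ⟨V, hV, hxV⟩ := Set.mem_iUnion₂.1 (hsub hx)
    exact ⟨V, hTf.mem_toFinset.2 hV, hxV⟩
  have : Nonempty W := ⟨⟨y₀, hyW⟩⟩
  have : _root_.IsReduced Γ(Y, W) := IsReduced.component_reduced W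
  classical
  obtain ⟨g, hg, hgood⟩ : ∃ g : Γ(Y, W), g ≠ 0 ∧ ∀ V (hV : V ∈ T),
      letI : Module Γ(Y, W) Γ(F, V.1) := Module.compHom _ (u.appLE W V.1 (hTle V hV)).hom
      FreeUpTo g Γ(F, V.1) := by
    suffices ∀ T' : Finset X.affineOpens, ∀ (h : T' ⊆ T), ∃ g : Γ(Y, W), g ≠ 0 ∧ ∀ V (hV : V ∈ T'),
        letI : Module Γ(Y, W) Γ(F, V.1) := Module.compHom _ (u.appLE W V.1 (hTle V (h hV))).hom
        FreeUpTo g Γ(F, V.1) from this T subset_rfl
    intro T'
    induction T' using Finset.induction with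
    | empty => exact fun _ ↦ ⟨1, one_ne_zero, fun V hV ↦ absurd hV (Finset.notMem_empty V)⟩
    | @insert V T' hV ih =>
      intro h
      obtain ⟨g, hg, hgood⟩ := ih fun x hx ↦ h (Finset.mem_insert_of_mem hx)
      have hle := hTle V (h (Finset.mem_insert_self V T'))
      let _ : Algebra Γ(Y, W) Γ(X, V.1) := (u.appLE W V.1 hle).hom.toAlgebra
      let _ : Module Γ(Y, W) Γ(F, V.1) := Module.compHom _ (u.appLE W V.1 hle).hom
      have : IsScalarTower Γ(Y, W) Γ(X, V.1) Γ(F, V.1) :=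
        IsScalarTower.of_algebraMap_smul fun _ _ ↦ rfl
      have : Algebra.FiniteType Γ(Y, W) Γ(X, V.1) := u.finiteType_appLE hW V.2 hle
      have : Module.Finite Γ(X, V.1) Γ(F, V.1) := CohBasics.Affine.finite_sections (M := F) V.2
      obtain ⟨n, α, hα⟩ := Algebra.FiniteType.iff_quotient_mvPolynomial''.1 ‹Algebra.FiniteType Γ(Y, W) Γ(X, V.1)›
      obtain ⟨k, m, hm⟩ := Module.Finite.exists_fin (R := Γ(X, V.1)) (M := Γ(F, V.1))
      obtain ⟨g', hg', hd, hfree, -⟩ := exists_upTo α hα m hm g hg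
      refine ⟨g', hg', fun V' hV' ↦ ?_⟩
      rcases Finset.mem_insert.1 hV' with rfl | hV'
      · exact hfree
      · let _ : Module Γ(Y, W) Γ(F, V'.1) :=
          Module.compHom _ (u.appLE W V'.1 (hTle V' (h (Finset.mem_insert_of_mem hV')))).hom
        exact (hgood V' hV').mono hd
  refine ⟨Y.basicOpen g, ?_, fun x hx ↦ ?_⟩
  · by_contra hc
    apply hg
    rw [← basicOpen_eq_bot_iff g]
    exact SetLike.coe_injective (Set.not_nonempty_iff_eq_empty.1 hc)
  obtain ⟨V, hV, hxV⟩ := hcov x (Y.basicOpen_le g hx)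
  have hle := hTle V hV
  have hxW : u x ∈ W := hle hxV
  let _ : Algebra Γ(Y, W) Γ(X, V.1) := (u.appLE W V.1 hle).hom.toAlgebra
  let _ : Module Γ(Y, W) Γ(F, V.1) := Module.compHom _ (u.appLE W V.1 hle).hom
  have : IsScalarTower Γ(Y, W) Γ(X, V.1) Γ(F, V.1) :=
    IsScalarTower.of_algebraMap_smul fun _ _ ↦ rfl
  have : Module.Free (Localization.Away g) (LocalizedModule (Submonoid.powers g) Γ(F, V.1)) :=
    (hgood V hV).free
  have : Module.Flat Γ(Y, W) (LocalizedModule (Submonoid.powers g) Γ(F, V.1)) :=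
    (Module.flat_iff_of_isLocalization (Localization.Away g) (Submonoid.powers g)
      (LocalizedModule (Submonoid.powers g) Γ(F, V.1))).1 inferInstance
  let _ := StalkLoc.Basic.moduleSections F hxV
  have := StalkLoc.Basic.isLocalizedModule_germ (M := F) V.2 hxV
  let _ := TopCat.Presheaf.algebra_section_stalk Y.presheaf (⟨u x, hxW⟩ : W)
  have := hW.isLocalization_stalk ⟨u x, hxW⟩
  let _ : Module (Y.presheaf.stalk (u x)) (F.presheaf.stalk x) := FlatMod.moduleStalkOver u F x
  let _ : Module Γ(Y, W) (F.presheaf.stalk x) :=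
    Module.compHom _ (Y.presheaf.germ W (u x) hxW).hom
  have : IsScalarTower Γ(Y, W) (Y.presheaf.stalk (u x)) (F.presheaf.stalk x) :=
    IsScalarTower.of_algebraMap_smul fun _ _ ↦ rfl
  have : IsScalarTower Γ(Y, W) Γ(X, V.1) (F.presheaf.stalk x) :=
    IsScalarTower.of_algebraMap_smul fun r m ↦ by
      show X.presheaf.germ V.1 x hxV (u.appLE W V.1 hle r) • m =
        (u.stalkMap x).hom (Y.presheaf.germ W (u x) hxW r) • m
      exact congrArg (· • m) (Flat55.FibrewiseScheme.germ_appLE u hle hxV r).symm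
  have hgT : algebraMap Γ(Y, W) Γ(X, V.1) g ∈ (V.2.primeIdealOf ⟨x, hxV⟩).asIdeal.primeCompl := by
    have hxa : x ∈ X.basicOpen (u.appLE W V.1 hle g) := by
      have : u.appLE W V.1 hle g = X.presheaf.map (homOfLE hle).op (u.app W g) := rfl
      rw [this, Scheme.basicOpen_res, ← Scheme.preimage_basicOpen]
      exact ⟨hxV, hx⟩
    have e : V.2.fromSpec (V.2.primeIdealOf ⟨x, hxV⟩) = x := V.2.fromSpec_primeIdealOf ⟨x, hxV⟩
    rw [← e] at hxa
    have hm : V.2.primeIdealOf ⟨x, hxV⟩ ∈ V.2.fromSpec ⁻¹ᵁ X.basicOpen (u.appLE W V.1 hle g) := hxa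
    rw [V.2.fromSpec_preimage_basicOpen] at hm
    exact (PrimeSpectrum.mem_basicOpen _ _).1 hm
  have hflat : Module.Flat Γ(Y, W) (F.presheaf.stalk x) :=
    flat_of_isLocalizedModule g _ hgT (StalkLoc.Basic.germₗ F hxV)
  exact (Module.flat_iff_of_isLocalization (Y.presheaf.stalk (u x))
    (hW.primeIdealOf ⟨u x, hxW⟩).asIdeal.primeCompl (F.presheaf.stalk x)).2 hflat

end Groth.Agent.Lib.GenFree
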