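import Mathlib.Data.Finsupp.MonomialOrder
import Mathlib.Data.Finsupp.PWO
import Mathlib.RingTheory.MvPolynomial.Basic
import Mathlib.RingTheory.Nilpotent.Defs
import Mathlib.Order.WellQuasiOrder
import Mathlib.LinearAlgebra.Finsupp.LinearCombination

/-!
# Generic freeness over a reduced ring

An elementary proof (after Blechschmidt): for a finite module `M` over `R[x₁,…,xₙ]` with `R` reduced
and `g₀ ≠ 0`, some nonzero multiple `g` of `g₀` makes `M` free with finitely many relations, all
statements being made over `R` up to powers of `g`.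
-/

noncomputable section

universe u

namespace Groth.Agent.Lib.GenFree

open MonomialOrder

variable {R : Type u} [CommRing R] {n k : ℕ}

/-- indices of the spanning family `x^d • mᵢ` -/
abbrev Idx (k n : ℕ) : Type := Fin k × (Fin n →₀ ℕ)

/-- the well-order on indices -/
def key (j : Idx k n) : (MonomialOrder.lex (σ := Fin n)).syn ×ₗ Fin k :=
  toLex ((MonomialOrder.lex (σ := Fin n)).toSyn j.2, j.1)

lemma key_injective : Function.Injective (key (k := k) (n := n)) := by
  intro a b h
  simp only [key, EmbeddingLike.apply_eq_iff_eq, Prod.mk.injEq] at h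
  exact Prod.ext h.2 h.1

/-- translate an index by an exponent -/
def sh (e : Fin n →₀ ℕ) (j : Idx k n) : Idx k n := (j.1, e + j.2)

lemma key_sh_lt (e : Fin n →₀ ℕ) {a b : Idx k n} (h : key a < key b) :
    key (sh e a) < key (sh e b) := by
  simp only [key, Prod.Lex.toLex_lt_toLex, sh, map_add] at h ⊢
  rcases h with h | ⟨h1, h2⟩
  · exact Or.inl (add_lt_add_right h _)
  · exact Or.inr ⟨by rw [h1], h2⟩

lemma wellFounded_key : WellFounded (InvImage (· < ·) (key (k := k) (n := n))) :=
  InvImage.wf _ wellFounded_lt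

/-- the upper set generated by `D` -/
def InUp (D : Finset (Idx k n)) (j : Idx k n) : Prop := ∃ d ∈ D, ∃ e, j = sh e d

/-- formal combinations of the spanning family -/
abbrev F (R : Type u) [CommRing R] (k n : ℕ) : Type u := Idx k n →₀ R

/-- translation of formal combinations -/
def shift (e : Fin n →₀ ℕ) : F R k n →ₗ[R] F R k n := Finsupp.lmapDomain R R (sh e)

variable {M : Type u} [AddCommGroup M] [Module R M] [Module (MvPolynomial (Fin n) R) M]

/-- evaluation of formal combinations -/
def ev (m : Fin k → M) : F R k n →ₗ[R] M :=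
  Finsupp.linearCombination R fun j ↦ (MvPolynomial.monomial j.2 (1 : R)) • m j.1

lemma ev_shift [IsScalarTower R (MvPolynomial (Fin n) R) M] (m : Fin k → M) (e : Fin n →₀ ℕ)
    (z : F R k n) : ev m (shift e z) = (MvPolynomial.monomial e (1 : R)) • ev m z := by
  induction z using Finsupp.induction_linear with
  | zero => simp
  | add a b ha hb => simp only [map_add, smul_add, ha, hb]
  | single j r =>
    simp only [ev, shift, Finsupp.lmapDomain_apply, Finsupp.mapDomain_single,
      Finsupp.linearCombination_single, sh]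
    rw [smul_comm _ r, smul_smul, MvPolynomial.monomial_mul, mul_one]

/-- rewriting data: for each `j ∈ D` a relation with leading index `j` and leading coefficient
dividing a power of `g` -/
def Rewr (m : Fin k → M) (g : R) (D : Finset (Idx k n)) (γ : Idx k n → F R k n) : Prop :=
  ∀ j ∈ D, ev m (γ j) = 0 ∧ (∀ i ∈ (γ j).support, key i ≤ key j) ∧ ∃ N : ℕ, γ j j ∣ g ^ N

variable (R n) in
/-- The `R[x]`-relations generated by a family of formal combinations -/
def relSpan {ι : Type*} (s : Finset ι) (γ : ι → F R k n) : Submodule R (F R k n) :=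
  ⨆ i ∈ s, ⨆ e, Submodule.span R {shift e (γ i)}

lemma shift_mem_relSpan {ι : Type*} {s : Finset ι} {γ : ι → F R k n} {i : ι} (hi : i ∈ s)
    (e : Fin n →₀ ℕ) : shift e (γ i) ∈ relSpan R n s γ :=
  le_iSup₂ (f := fun i (_ : i ∈ s) ↦ ⨆ e, Submodule.span R {shift e (γ i)}) i hi
    (Submodule.mem_iSup_of_mem e (Submodule.subset_span rfl))

lemma ev_relSpan [IsScalarTower R (MvPolynomial (Fin n) R) M] {ι : Type*} {s : Finset ι}
    {γ : ι → F R k n} {m : Fin k → M} (h : ∀ i ∈ s, ev m (γ i) = 0) :
    relSpan R n s γ ≤ LinearMap.ker (ev m) := by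
  refine iSup₂_le fun i hi ↦ iSup_le fun e ↦ ?_
  rw [Submodule.span_singleton_le_iff_mem, LinearMap.mem_ker, ev_shift, h i hi, smul_zero]

lemma eq_single_add_erase (z : F R k n) (j : Idx k n) :
    z = Finsupp.single j (z j) + z.erase j := (Finsupp.single_add_erase j z).symm

/-- everything reduces to combinations supported outside `InUp D`, up to a power of `g` -/
theorem exists_reduce {m : Fin k → M} {g : R} {D : Finset (Idx k n)} {γ : Idx k n → F R k n}
    (h : Rewr m g D γ) (z : F R k n) : ∃ (N : ℕ) (r : F R k n),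
      (∀ i ∈ r.support, ¬ InUp D i) ∧ g ^ N • z - r ∈ relSpan R n D γ := by
  classical
  let T : Submodule R (F R k n) :=
    { carrier := {z | ∃ (N : ℕ) (r : F R k n),
        (∀ i ∈ r.support, ¬ InUp D i) ∧ g ^ N • z - r ∈ relSpan R n D γ}
      zero_mem' := ⟨0, 0, by simp, by simp⟩
      add_mem' := by
        rintro a b ⟨N, r, hr, hra⟩ ⟨N', r', hr', hrb⟩
        refine ⟨N + N', g ^ N' • r + g ^ N • r', fun i hi ↦ ?_, ?_⟩
        · rcases Finset.mem_union.1 (Finsupp.support_add hi) with h' | h'
          · exact hr i (Finsupp.support_smul h')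
          · exact hr' i (Finsupp.support_smul h')
        · have : g ^ (N + N') • (a + b) - (g ^ N' • r + g ^ N • r') =
              g ^ N' • (g ^ N • a - r) + g ^ N • (g ^ N' • b - r') := by
            rw [pow_add]
            module
          rw [this]
          exact add_mem (Submodule.smul_mem _ _ hra) (Submodule.smul_mem _ _ hrb)
      smul_mem' := by
        rintro c a ⟨N, r, hr, hra⟩
        refine ⟨N, c • r, fun i hi ↦ hr i (Finsupp.support_smul hi), ?_⟩
        rw [smul_comm, ← smul_sub]
        exact Submodule.smul_mem _ _ hra }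
  suffices ∀ j, ∀ r : R, Finsupp.single j r ∈ T by
    show z ∈ T
    rw [← z.sum_single]
    exact sum_mem fun j _ ↦ this j _
  intro j
  induction j using wellFounded_key.induction with
  | _ j ih =>
    intro r
    by_cases hj : InUp D j
    · obtain ⟨d, hd, e, rfl⟩ := hj
      obtain ⟨-, hsupp, N, a, ha⟩ := h d hd
      have hrest : shift e ((γ d).erase d) ∈ T := by
        rw [← ((γ d).erase d).sum_single]
        simp only [Finsupp.sum, map_sum]
        refine sum_mem fun i hi ↦ ?_
        rw [shift, Finsupp.lmapDomain_apply, Finsupp.mapDomain_single]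
        rw [Finsupp.support_erase, Finset.mem_erase] at hi
        exact ih _ (key_sh_lt e ((hsupp i hi.2).lt_of_ne fun h' ↦ hi.1 (key_injective h'))) _
      have hstep : g ^ N • Finsupp.single (sh e d) r ∈ T := by
        have hz : Finsupp.single (sh e d) (γ d d) ∈ T := by
          have h1 : shift e (γ d) ∈ T :=
            ⟨0, 0, by simp, by simpa using shift_mem_relSpan hd e⟩
          rw [eq_single_add_erase (γ d) d, map_add] at h1
          have h2 : shift e (Finsupp.single d (γ d d)) = Finsupp.single (sh e d) (γ d d) :=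
            Finsupp.mapDomain_single
          rw [h2] at h1
          exact (Submodule.add_mem_iff_left _ hrest).1 h1
        have := T.smul_mem (a * r) hz
        rw [Finsupp.smul_single, smul_eq_mul] at this
        rw [Finsupp.smul_single, smul_eq_mul, ha]
        convert this using 2
        ring
      obtain ⟨N', r', hr', hrr⟩ := hstep
      exact ⟨N' + N, r', hr', by rwa [pow_add, mul_smul]⟩
    · refine ⟨0, Finsupp.single j r, fun i hi ↦ ?_, by simp⟩
      rw [Finset.mem_singleton.1 (Finsupp.support_single_subset hi)]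
      exact hj

/-- The rewriting data can be extended until the remaining family is independent up to `g`. -/
theorem exists_terminal [IsReduced R] (m : Fin k → M) (g₀ : R) (hg₀ : g₀ ≠ 0) :
    ∃ (g : R) (D : Finset (Idx k n)) (γ : Idx k n → F R k n),
      g ≠ 0 ∧ g₀ ∣ g ∧ Rewr m g D γ ∧
      ∀ r : F R k n, (∀ i ∈ r.support, ¬ InUp D i) → ev m r = 0 → g • r = 0 := by
  classical
  let St := {s : R × Finset (Idx k n) × (Idx k n → F R k n) //
    s.1 ≠ 0 ∧ g₀ ∣ s.1 ∧ Rewr m s.1 s.2.1 s.2.2}
  by_contra hno
  push Not at hno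
  have hnext : ∀ s : St, ∃ (j : Idx k n) (s' : St), ¬ InUp s.1.2.1 j ∧ s'.1.2.1 = insert j s.1.2.1 := by
    rintro ⟨⟨g, D, γ⟩, hg, hdvd, hrw⟩
    obtain ⟨r, hr, hr0, hgr⟩ := hno g D γ hg hdvd hrw
    obtain ⟨j, hj, hmax⟩ := (g • r).support.exists_max_image key (Finsupp.support_nonempty_iff.2 hgr)
    have hjr : ¬ InUp D j := hr j (Finsupp.support_smul hj)
    have hc : (g • r) j ≠ 0 := Finsupp.mem_support_iff.1 hj
    refine ⟨j, ⟨⟨(g • r) j, insert j D, Function.update γ j (g • r)⟩, hc, ?_, ?_⟩, hjr, rfl⟩
    · rw [Finsupp.smul_apply, smul_eq_mul]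
      exact hdvd.mul_right _
    · intro i hi
      rcases Finset.mem_insert.1 hi with rfl | hiD
      · simp only [Function.update_self]
        exact ⟨by rw [map_smul, hr0, smul_zero], hmax, 1, by simp⟩
      · have hne : i ≠ j := fun h' ↦ hjr ⟨i, hiD, 0, by simp [sh, h']⟩
        simp only [Function.update_of_ne hne]
        obtain ⟨h1, h2, N, h3⟩ := hrw i hiD
        refine ⟨h1, h2, N, h3.trans (pow_dvd_pow_of_dvd ?_ N)⟩
        exact Dvd.intro (r j) (by simp)
  choose jn sn hjn hsn using hnext
  let s₀ : St := ⟨(g₀, ∅, fun _ ↦ 0), hg₀, dvd_rfl, fun j hj ↦ absurd hj (Finset.notMem_empty j)⟩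
  let seq : ℕ → St := fun i ↦ sn^[i] s₀
  let J : ℕ → Idx k n := fun i ↦ jn (seq i)
  have hmono : ∀ a b, a < b → J a ∈ (seq b).1.2.1 := by
    intro a b hab
    induction b with
    | zero => omega
    | succ b ih =>
      have hs : (seq (b + 1)).1.2.1 = insert (J b) (seq b).1.2.1 := by
        show (sn^[b + 1] s₀).1.2.1 = _
        rw [Function.iterate_succ_apply', hsn]
      rw [hs]
      rcases Nat.lt_succ_iff_lt_or_eq.1 hab with h' | rfl
      · exact Finset.mem_insert_of_mem (ih h')
      · exact Finset.mem_insert_self _ _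
  have hwqo : WellQuasiOrdered (fun a b : Idx k n ↦ a.1 = b.1 ∧ a.2 ≤ b.2) :=
    (Finite.wellQuasiOrdered (Eq : Fin k → Fin k → Prop)).prod wellQuasiOrdered_le
  obtain ⟨a, b, hab, hfst, hle⟩ := hwqo J
  obtain ⟨c, hc⟩ := exists_add_of_le hle
  exact hjn (seq b) ⟨J a, hmono a b hab, c, Prod.ext hfst.symm (by rw [sh, add_comm]; exact hc)⟩

end Groth.Agent.Lib.GenFree
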